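import Mathlib

/-!
# Word witnesses in the Held group for its multiplier (helper70)

Generators of Sylow subgroups for the primes 3, 5, 7, 17 with normalising elements, and conjugating
words for two involutions.
-/

set_option autoImplicit false

namespace Cfsg.Agent.HeMult70.Data

def u3 : List ℕ := [2, 1, 3, 4, 5, 3, 2, 1, 3, 2, 5, 3, 2, 1, 0, 3, 2, 3, 4, 5, 3, 2, 1, 3, 2, 5, 6, 3, 2]

def v3 : List ℕ := [0, 1, 0, 3, 2, 1, 5, 3, 2, 1, 3, 4, 3, 2, 5, 3]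

def h3 : List ℕ := [1]

def u5 : List ℕ := [2, 0, 3]

def v5 : List ℕ := [0, 1, 2, 5, 6, 3, 2, 1, 5, 3, 2, 3, 6, 3, 2, 3, 2, 1, 3, 2, 5, 3, 2, 1, 6, 5]

def h5 : List ℕ := [1, 0, 1, 6, 3, 2, 3, 2, 6, 3, 2, 3, 4, 6]

def u7 : List ℕ := [0, 3, 4, 6, 3, 2, 1, 3, 4, 3, 2, 1, 5, 3, 2, 4, 3, 6, 5, 3, 2, 1, 3, 2, 3, 2, 5, 6]

def v7 : List ℕ := [1, 2, 4, 3, 2, 6, 3, 2, 1, 4, 5, 3, 2, 4, 3, 2, 3, 6, 3, 2, 1, 3, 2, 3, 2, 4]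

def h7 : List ℕ := [6, 3, 2, 1, 4, 3, 2, 1, 5, 3, 2, 1, 3, 4, 6, 3, 2, 4, 3, 2, 1, 3, 2, 3, 2, 5, 3, 2, 1]

def x17 : List ℕ := [5, 2, 3, 1]

def toA : List ℕ := [2, 3, 2, 3, 5, 3, 2, 3, 2, 5, 3, 2, 1]

def toD : List ℕ := [2, 4, 3, 2, 6, 5]

end Cfsg.Agent.HeMult70.Data
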