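import Cfsg.Agent.HeMult70.Words
import Cfsg.Agent.PresMult70.Exp2

/-!
# Lifts of the Held generators to an extension with central kernel of exponent two (helper70)

All lifts of commuting generators commute and all lifts of generators are involutions.
-/

set_option autoImplicit false
set_option maxRecDepth 100000

namespace Cfsg.Agent.HeMult70

open Cfsg.Agent.CosetEnum Cfsg.Agent.CosetEnum.He Cfsg.Agent.PresMult70

universe u
variable {E : Type u} [Group E] (σ : E →* G) (hσ : Function.Surjective σ)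
  (hc : σ.ker ≤ Subgroup.center E) (h2 : ∀ k, σ k = 1 → k * k = 1)

/-- All lifts of two generators commute. -/
def Comm (i j : ℕ) : Prop := ∀ x y : E, σ x = V [i] → σ y = V [j] → Commute x y

theorem Comm.symm {i j : ℕ} (h : Comm σ i j) : Comm σ j i := fun x y hx hy => (h y x hy hx).symm

theorem map_conj {w x : E} {P : List ℕ} {i : ℕ} (hP : P.all (fun l => Nat.blt l 7) = true)
    (hw : σ w = V P) (hx : σ x = V [i]) :
    σ (w * x * w⁻¹) = V (P ++ [i] ++ P.reverse) := by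
  rw [map_mul, map_mul, map_inv, hw, hx, V_append, V_append, V_reverse P hP]

include hσ hc

theorem Comm.conj {i j k l : ℕ} (h : Comm σ i j) (P : List ℕ)
    (hk : sameAction (P ++ [i] ++ P.reverse) [k] = true)
    (hl : sameAction (P ++ [j] ++ P.reverse) [l] = true)
    (hP : P.all (fun l => Nat.blt l 7) = true) : Comm σ k l := by
  intro x' y' hx' hy'
  obtain ⟨x, hx⟩ := hσ (V [i])
  obtain ⟨y, hy⟩ := hσ (V [j])
  obtain ⟨w, hw⟩ := hσ (V P)
  exact commute_conj σ hc (h x y hx hy) (by rw [map_conj σ hP hw hx, hx', word_eq hk])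
    (by rw [map_conj σ hP hw hy, hy', word_eq hl])

include h2

theorem comm_e {i : ℕ} (h : sameAction ([i] ++ [5, 6]) ([5, 6] ++ [i]) = true) : Comm σ i 4 := by
  intro x y hx hy
  obtain ⟨w, hw⟩ := hσ (V [5, 6])
  refine commute_of_eq σ hc rfl ?_ (commute_sq σ hc h2 (x := x) (y := w) ?_)
  · rw [hy, map_mul, hw, ← V_append]; exact word_eq (by decide +kernel)
  · rw [hx, hw]
    show V [i] * V [5, 6] = V [5, 6] * V [i]
    rw [← V_append, ← V_append]; exact word_eq h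

theorem comm_ae : Comm σ 0 4 := comm_e σ hσ hc h2 (by decide +kernel)
theorem comm_be : Comm σ 1 4 := comm_e σ hσ hc h2 (by decide +kernel)
theorem comm_ce : Comm σ 2 4 := comm_e σ hσ hc h2 (by decide +kernel)

theorem comm_ad : Comm σ 0 3 :=
  Comm.conj σ hσ hc (comm_ae σ hσ hc h2) [4, 3] (by decide +kernel) (by decide +kernel) rfl
theorem comm_af : Comm σ 0 5 :=
  Comm.conj σ hσ hc (comm_ad σ hσ hc h2) [3, 5] (by decide +kernel) (by decide +kernel) rfl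
theorem comm_ag : Comm σ 0 6 :=
  Comm.conj σ hσ hc (comm_ad σ hσ hc h2) [3, 6] (by decide +kernel) (by decide +kernel) rfl
theorem comm_bd : Comm σ 1 3 :=
  Comm.conj σ hσ hc (comm_be σ hσ hc h2) [4, 3] (by decide +kernel) (by decide +kernel) rfl
theorem comm_bf : Comm σ 1 5 :=
  Comm.conj σ hσ hc (comm_bd σ hσ hc h2) [3, 5] (by decide +kernel) (by decide +kernel) rfl
theorem comm_bg : Comm σ 1 6 :=
  Comm.conj σ hσ hc (comm_bd σ hσ hc h2) [3, 6] (by decide +kernel) (by decide +kernel) rfl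
theorem comm_cf : Comm σ 2 5 :=
  Comm.conj σ hσ hc (comm_bf σ hσ hc h2) [1, 2] (by decide +kernel) (by decide +kernel) rfl
theorem comm_cg : Comm σ 2 6 :=
  Comm.conj σ hσ hc (comm_bg σ hσ hc h2) [1, 2] (by decide +kernel) (by decide +kernel) rfl

omit hσ hc h2 in
theorem map_cd_five {c d : E} (hc' : σ c = V [2]) (hd : σ d = V [3]) :
    σ ((c * d) ^ 5) = V [0] := by
  rw [map_pow, map_mul, hc', hd, ← V_append, V_pow]; exact word_eq (by decide +kernel)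

omit hσ hc h2 in
theorem map_abc_three {a b c : E} (ha : σ a = V [0]) (hb : σ b = V [1]) (hc' : σ c = V [2]) :
    σ ((a * b * c) ^ 3) = V [4] := by
  rw [map_pow, map_mul, map_mul, ha, hb, hc', ← V_append, ← V_append, V_pow]
  exact word_eq (by decide +kernel)

theorem comm_ac : Comm σ 0 2 := by
  intro x y hx hy
  obtain ⟨d, hd⟩ := hσ (V [3])
  have hu := map_cd_five σ hy hd
  have h1 : Commute ((y * d) ^ 5) (y * d) := (Commute.refl _).pow_left 5
  have h3 := h1.mul_right (comm_ad σ hσ hc h2 _ _ hu hd).inv_right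
  rw [mul_inv_cancel_right] at h3
  exact commute_of_eq σ hc (hx.trans hu.symm) rfl h3

theorem comm_to_e {i : ℕ} (h0 : Comm σ 0 i) (h1 : Comm σ 1 i) (h3 : Comm σ 2 i) : Comm σ 4 i := by
  intro x y hx hy
  obtain ⟨a, ha⟩ := hσ (V [0])
  obtain ⟨b, hb⟩ := hσ (V [1])
  obtain ⟨c, hc'⟩ := hσ (V [2])
  exact commute_of_eq σ hc (hx.trans (map_abc_three σ ha hb hc').symm) rfl
    ((((h0 a y ha hy).mul_left (h1 b y hb hy)).mul_left (h3 c y hc' hy)).pow_left 3)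

theorem comm_ef : Comm σ 4 5 :=
  comm_to_e σ hσ hc h2 (comm_af σ hσ hc h2) (comm_bf σ hσ hc h2) (comm_cf σ hσ hc h2)
theorem comm_eg : Comm σ 4 6 :=
  comm_to_e σ hσ hc h2 (comm_ag σ hσ hc h2) (comm_bg σ hσ hc h2) (comm_cg σ hσ hc h2)

omit hσ hc h2 in
theorem map_sq {i : ℕ} (hi : i < 7) {x : E} (hx : σ x = V [i]) : σ (x * x) = 1 := by
  rw [map_mul, hx, ← V_append]
  refine word_eq (W := []) ?_
  interval_cases i <;> decide +kernel

theorem sq_e {x : E} (hx : σ x = V [4]) : x * x = 1 := by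
  obtain ⟨f, hf⟩ := hσ (V [5])
  obtain ⟨g, hg⟩ := hσ (V [6])
  have hff := map_sq σ (by norm_num : 5 < 7) hf
  have hgg := map_sq σ (by norm_num : 6 < 7) hg
  have hw : σ (f * g * (f * g)) = V [4] := by
    simp only [map_mul, hf, hg, ← V_append]; exact word_eq (by decide +kernel)
  have hwf : Commute (f * g * (f * g)) f := comm_ef σ hσ hc h2 _ _ hw hf
  have e : f * g * (f * g) = g * f * (g * f) := by
    calc f * g * (f * g) = f⁻¹ * (f * (f * g * (f * g))) := (inv_mul_cancel_left _ _).symm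
      _ = f⁻¹ * (f * g * (f * g) * f) := by rw [hwf.eq]
      _ = g * f * (g * f) := by group
  rw [sq_eq σ hc h2 (hx.trans hw.symm)]
  calc f * g * (f * g) * (f * g * (f * g))
      = f * g * (f * g) * (g * f * (g * f)) := by nth_rw 2 [e]
    _ = f * g * f * (g * g) * (f * g * f) := by group
    _ = g * g * (f * g * (f * f) * (g * f)) := by rw [central_move σ hc hgg]; group
    _ = g * g * (f * f * (f * (g * g) * f)) := by rw [central_move σ hc hff]; group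
    _ = g * g * (f * f * (g * g * (f * f))) := by rw [central_move σ hc hgg]
    _ = g * g * (g * g) * (f * f * (f * f)) := by
        rw [← mul_assoc (f * f), (J2Mult70.central_of σ hc hff (g * g)).eq]; group
    _ = 1 := by rw [h2 _ hgg, h2 _ hff, mul_one]

theorem sq_of_conj {i j : ℕ} (hi : i < 7) (h : ∀ x, σ x = V [i] → x * x = 1) (P : List ℕ)
    (hP : P.all (fun l => Nat.blt l 7) = true)
    (hj : sameAction (P ++ [i] ++ P.reverse) [j] = true) {y : E} (hy : σ y = V [j]) : y * y = 1 := by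
  obtain ⟨x, hx⟩ := hσ (V [i])
  obtain ⟨w, hw⟩ := hσ (V P)
  rw [sq_conj σ hc h2 (x := x) (w := w) (by rw [map_conj σ hP hw hx, hy, word_eq hj])
    (map_sq σ hi hx), h x hx]

theorem sq_d {x : E} (hx : σ x = V [3]) : x * x = 1 :=
  sq_of_conj σ hσ hc h2 (by norm_num : 4 < 7) (fun _ h => sq_e σ hσ hc h2 h) [4, 3] rfl
    (by decide +kernel) hx

theorem sq_f {x : E} (hx : σ x = V [5]) : x * x = 1 :=
  sq_of_conj σ hσ hc h2 (by norm_num : 3 < 7) (fun _ h => sq_d σ hσ hc h2 h) [3, 5] rfl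
    (by decide +kernel) hx

theorem sq_g {x : E} (hx : σ x = V [6]) : x * x = 1 :=
  sq_of_conj σ hσ hc h2 (by norm_num : 3 < 7) (fun _ h => sq_d σ hσ hc h2 h) [3, 6] rfl
    (by decide +kernel) hx

theorem sq_a {x : E} (hx : σ x = V [0]) : x * x = 1 := by
  obtain ⟨b, hb⟩ := hσ (V [1])
  obtain ⟨c, hc'⟩ := hσ (V [2])
  have hza := map_sq σ (by norm_num : 0 < 7) hx
  have hzb := map_sq σ (by norm_num : 1 < 7) hb
  have hzc := map_sq σ (by norm_num : 2 < 7) hc'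
  have hac := comm_ac σ hσ hc h2 x c hx hc'
  have hu : σ ((x * b * c) ^ 3) = V [4] := map_abc_three σ hx hb hc'
  have hci : c * x⁻¹ * c⁻¹ = x⁻¹ := by rw [hac.inv_left.symm.eq]; group
  have hconj : c * x * (x * b * c) * (c * x)⁻¹ = c * b * x := by
    calc c * x * (x * b * c) * (c * x)⁻¹ = c * (x * x) * b * (c * x⁻¹ * c⁻¹) := by group
      _ = c * (x * x * b) * x⁻¹ := by rw [hci]; group
      _ = c * b * (x * x) * x⁻¹ := by rw [(J2Mult70.central_of σ hc hza b).eq]; group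
      _ = c * b * x := by group
  have hfix : (c * b * x) ^ 3 = (x * b * c) ^ 3 := by
    rw [← hconj, conj_pow]
    have h := ((comm_ce σ hσ hc h2 c _ hc' hu).mul_left (comm_ae σ hσ hc h2 x _ hx hu))
    rw [h.eq]; group
  have hZ : c * b * x * (x * b * c) = x * x * (b * b * (c * c)) := by
    calc c * b * x * (x * b * c) = c * b * (x * x) * (b * c) := by group
      _ = x * x * (c * (b * b) * c) := by rw [central_move σ hc hza]; group
      _ = _ := by rw [central_move σ hc hzb]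
  have hZk : σ (x * x * (b * b * (c * c))) = 1 := by simp [map_mul σ (x * x), map_mul σ (b * b), hza, hzb, hzc]
  have hcbx : c * b * x = (x * b * c)⁻¹ * (x * x * (b * b * (c * c))) := by
    rw [← (J2Mult70.central_of σ hc hZk _).eq, ← hZ, mul_inv_cancel_right]
  rw [hcbx, J2Mult70.central_pow_mul σ hc hZk, inv_pow, show (3 : ℕ) = 2 * 1 + 1 from rfl,
    odd_pow σ hc h2 hZk] at hfix
  have hsq : x * x * (b * b * (c * c)) = 1 := by
    rw [← sq_e σ hσ hc h2 hu]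
    calc _ = (x * b * c) ^ 3 * (((x * b * c) ^ 3)⁻¹ * (x * x * (b * b * (c * c)))) := by group
      _ = _ := by rw [hfix]
  obtain ⟨w, hw⟩ := hσ (V [2, 1])
  have hbc : b * b = c * c := sq_conj σ hc h2 (x := c) (w := w)
    (by rw [map_conj σ rfl hw hc', hb]; exact word_eq (by decide +kernel)) hzc
  rwa [hbc, h2 _ hzc, mul_one] at hsq

theorem sq_c {x : E} (hx : σ x = V [2]) : x * x = 1 := by
  obtain ⟨d, hd⟩ := hσ (V [3])
  have hzc := map_sq σ (by norm_num : 2 < 7) hx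
  have hdd := sq_d σ hσ hc h2 hd
  have hu := map_cd_five σ hx hd
  have hconj : d * (x * d) * d⁻¹ = (x * d)⁻¹ * (x * x) := by
    rw [← (J2Mult70.central_of σ hc hzc _).eq, mul_inv_rev, inv_eq_of_mul_eq_one_right hdd]
    calc d * (x * d) * d = d * x * (d * d) := by group
      _ = d * x := by rw [hdd, mul_one]
      _ = d * (x * x) * x⁻¹ := by group
      _ = x * x * (d * x⁻¹) := by rw [← (J2Mult70.central_of σ hc hzc d).eq]; group
  have hfix : d * (x * d) ^ 5 * d⁻¹ = (x * d) ^ 5 := by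
    rw [← (comm_ad σ hσ hc h2 _ _ hu hd).eq]; group
  rw [← conj_pow, hconj, J2Mult70.central_pow_mul σ hc hzc, inv_pow,
    show (5 : ℕ) = 2 * 2 + 1 from rfl, odd_pow σ hc h2 hzc] at hfix
  rw [← sq_a σ hσ hc h2 hu]
  calc x * x = (x * d) ^ 5 * (((x * d) ^ 5)⁻¹ * (x * x)) := by group
    _ = _ := by rw [hfix]

theorem sq_b {x : E} (hx : σ x = V [1]) : x * x = 1 :=
  sq_of_conj σ hσ hc h2 (by norm_num : 2 < 7) (fun _ h => sq_c σ hσ hc h2 h) [2, 1] rfl
    (by decide +kernel) hx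

/-- Lifts of the generators satisfying all defining relations. -/
theorem exists_good : ∃ a b c d e f g : E,
    (σ a = V [0] ∧ σ b = V [1] ∧ σ c = V [2] ∧ σ d = V [3] ∧ σ e = V [4] ∧ σ f = V [5] ∧
      σ g = V [6]) ∧
    (a * b) ^ 4 = 1 ∧ (b * c) ^ 3 = 1 ∧ (c * d) ^ 10 = 1 ∧ (d * e) ^ 3 = 1 ∧ (d * f) ^ 3 = 1 ∧
    (f * g) ^ 4 = 1 ∧ (g * d) ^ 3 = 1 ∧
    e = (f * g) ^ 2 ∧ e = (a * b * c) ^ 3 ∧ a = (c * d) ^ 5 ∧ (c * d * f * g) ^ 4 = 1 := by
  have tri : ∀ {x y : E} (U : List ℕ), σ (x * y) = V U → sameAction (repWord U 3) [] = true →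
      σ ((x * y) ^ 3) = 1 := fun U h hU => by rw [map_pow, h, V_pow]; exact word_eq hU
  obtain ⟨f₀, hf₀⟩ := hσ (V [5])
  obtain ⟨g₀, hg₀⟩ := hσ (V [6])
  obtain ⟨d₀, hd₀⟩ := hσ (V [3])
  obtain ⟨b₀, hb₀⟩ := hσ (V [1])
  obtain ⟨c₀, hc₀⟩ := hσ (V [2])
  obtain ⟨e, he⟩ : ∃ e, e = (f₀ * g₀) ^ 2 := ⟨_, rfl⟩
  have hσe : σ e = V [4] := by
    rw [he, map_pow, map_mul, hf₀, hg₀, ← V_append, V_pow]; exact word_eq (by decide +kernel)
  -- `d e`
  have hk₁ : σ ((d₀ * e) ^ 3) = 1 :=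
    tri [3, 4] (by rw [map_mul, hd₀, hσe, ← V_append]; rfl) (by decide +kernel)
  obtain ⟨d, hd⟩ : ∃ d, d = d₀ * (d₀ * e) ^ 3 := ⟨_, rfl⟩
  have hσd : σ d = V [3] := by rw [hd, map_mul, hk₁, mul_one, hd₀]
  have hde : (d * e) ^ 3 = 1 := by
    rw [hd, mul_assoc, (J2Mult70.central_of σ hc hk₁ e).eq, ← mul_assoc,
      show (3 : ℕ) = 2 * 1 + 1 from rfl, mul_pow_odd σ hc h2 hk₁]
    exact h2 _ hk₁
  -- `d f`
  have hk₂ : σ ((d * f₀) ^ 3) = 1 :=
    tri [3, 5] (by rw [map_mul, hσd, hf₀, ← V_append]; rfl) (by decide +kernel)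
  obtain ⟨f, hf⟩ : ∃ f, f = f₀ * (d * f₀) ^ 3 := ⟨_, rfl⟩
  have hσf : σ f = V [5] := by rw [hf, map_mul, hk₂, mul_one, hf₀]
  have hdf : (d * f) ^ 3 = 1 := by
    rw [hf, ← mul_assoc, show (3 : ℕ) = 2 * 1 + 1 from rfl, mul_pow_odd σ hc h2 hk₂]
    exact h2 _ hk₂
  -- `g d`
  have hk₃ : σ ((g₀ * d) ^ 3) = 1 :=
    tri [6, 3] (by rw [map_mul, hσd, hg₀, ← V_append]; rfl) (by decide +kernel)
  obtain ⟨g, hg⟩ : ∃ g, g = g₀ * (g₀ * d) ^ 3 := ⟨_, rfl⟩
  have hσg : σ g = V [6] := by rw [hg, map_mul, hk₃, mul_one, hg₀]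
  have hgd : (g * d) ^ 3 = 1 := by
    rw [hg, mul_assoc, (J2Mult70.central_of σ hc hk₃ d).eq, ← mul_assoc,
      show (3 : ℕ) = 2 * 1 + 1 from rfl, mul_pow_odd σ hc h2 hk₃]
    exact h2 _ hk₃
  have hfg : e = (f * g) ^ 2 := by
    rw [he, sq, sq]
    exact (sq_eq σ hc h2 (by rw [map_mul, map_mul, hσf, hσg, hf₀, hg₀])).symm
  -- `b c`
  have hk₄ : σ ((b₀ * c₀) ^ 3) = 1 :=
    tri [1, 2] (by rw [map_mul, hb₀, hc₀, ← V_append]; rfl) (by decide +kernel)
  obtain ⟨c₁, hc₁⟩ : ∃ c₁, c₁ = c₀ * (b₀ * c₀) ^ 3 := ⟨_, rfl⟩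
  have hσc₁ : σ c₁ = V [2] := by rw [hc₁, map_mul, hk₄, mul_one, hc₀]
  have hbc₁ : (b₀ * c₁) ^ 3 = 1 := by
    rw [hc₁, ← mul_assoc, show (3 : ℕ) = 2 * 1 + 1 from rfl, mul_pow_odd σ hc h2 hk₄]
    exact h2 _ hk₄
  obtain ⟨a₁, ha₁⟩ : ∃ a₁, a₁ = (c₁ * d) ^ 5 := ⟨_, rfl⟩
  have hσa₁ : σ a₁ = V [0] := by rw [ha₁]; exact map_cd_five σ hσc₁ hσd
  have hT := map_abc_three σ hσa₁ hb₀ hσc₁
  obtain ⟨r, hr⟩ : ∃ r, r = (a₁ * b₀ * c₁) ^ 3 * e := ⟨_, rfl⟩
  have hσr : σ r = 1 := by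
    rw [hr, map_mul, hT, hσe, ← V_append]; exact word_eq (W := []) (by decide +kernel)
  have hrc : ∀ x, Commute r x := fun x => J2Mult70.central_of σ hc hσr x
  have hrr : r * r = 1 := h2 r hσr
  obtain ⟨b, hb⟩ : ∃ b, b = b₀ * r := ⟨_, rfl⟩
  obtain ⟨c, hc'⟩ : ∃ c, c = c₁ * r := ⟨_, rfl⟩
  obtain ⟨a, ha⟩ : ∃ a, a = (c * d) ^ 5 := ⟨_, rfl⟩
  have hσb : σ b = V [1] := by rw [hb, map_mul, hσr, mul_one, hb₀]
  have hσc : σ c = V [2] := by rw [hc', map_mul, hσr, mul_one, hσc₁]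
  have hσa : σ a = V [0] := by rw [ha]; exact map_cd_five σ hσc hσd
  have hbc : (b * c) ^ 3 = 1 := by
    rw [hb, hc', (hrc c₁).mul_mul_mul_comm b₀ r, hrr, mul_one, hbc₁]
  have haa : a = a₁ * r := by
    rw [ha, ha₁, hc', mul_assoc c₁ r, (hrc d).eq, ← mul_assoc, show (5 : ℕ) = 2 * 2 + 1 from rfl,
      mul_pow_odd σ hc h2 hσr]
  have habc : e = (a * b * c) ^ 3 := by
    have h1 : a * b * c = a₁ * b₀ * c₁ * r := by
      rw [haa, hb, hc']
      calc a₁ * r * (b₀ * r) * (c₁ * r) = a₁ * r * b₀ * (r * c₁) * r := by group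
        _ = a₁ * (r * b₀) * c₁ * (r * r) := by rw [(hrc c₁).eq]; group
        _ = a₁ * b₀ * (r * c₁) := by rw [hrr, mul_one, (hrc b₀).eq]; group
        _ = _ := by rw [(hrc c₁).eq]; group
    rw [h1, show (3 : ℕ) = 2 * 1 + 1 from rfl, mul_pow_odd σ hc h2 hσr]
    show e = (a₁ * b₀ * c₁) ^ 3 * r
    rw [hr, ← mul_assoc, sq_e σ hσ hc h2 hT, one_mul]
  have hab : (a * b) ^ 4 = 1 := by
    obtain ⟨w, hw⟩ := hσ (V Data.toA)
    rw [show (4 : ℕ) = 2 + 2 from rfl, pow_add,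
      sq_conj σ hc h2 (x := a) (w := w) (by
        rw [map_conj σ (by decide +kernel) hw hσa, map_pow, map_mul, hσa, hσb, ← V_append, V_pow]
        exact word_eq (by decide +kernel)) (map_sq σ (by norm_num : 0 < 7) hσa),
      sq_a σ hσ hc h2 hσa]
  have hcdfg : (c * d * f * g) ^ 4 = 1 := by
    obtain ⟨w, hw⟩ := hσ (V Data.toD)
    rw [show (4 : ℕ) = 2 + 2 from rfl, pow_add,
      sq_conj σ hc h2 (x := d) (w := w) (by
        rw [map_conj σ (by decide +kernel) hw hσd, map_pow, map_mul, map_mul, map_mul, hσc, hσd,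
          hσf, hσg, ← V_append, ← V_append, ← V_append, V_pow]
        exact word_eq (by decide +kernel)) (map_sq σ (by norm_num : 3 < 7) hσd),
      sq_d σ hσ hc h2 hσd]
  refine ⟨a, b, c, d, e, f, g, ⟨hσa, hσb, hσc, hσd, hσe, hσf, hσg⟩, hab, hbc, ?_, hde, hdf, ?_, hgd,
    hfg, habc, ha, hcdfg⟩
  · rw [show (10 : ℕ) = 5 + 5 from rfl, pow_add, ← ha]; exact sq_a σ hσ hc h2 hσa
  · rw [show (4 : ℕ) = 2 + 2 from rfl, pow_add, ← hfg]; exact sq_e σ hσ hc h2 hσe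

end Cfsg.Agent.HeMult70
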