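import Cfsg.Agent.HeMult70.Lifts
import Cfsg.Agent.PresMult70.Sylow

/-!
# The Schur multiplier of the Held group is trivial (helper70)
-/

set_option autoImplicit false
set_option maxRecDepth 100000

namespace Cfsg.Agent.HeMult70

open Cfsg.Spor Cfsg.Agent.CosetEnum Cfsg.Agent.CosetEnum.He Cfsg.Agent.PresMult70
open scoped commutatorElement

universe u

theorem V_single (x : Cfsg.Spor.He.Gen) (l : ℕ) (h : genList[l]? = some x) :
    V [l] = (PresentedGroup.of x : G) := by
  show pres.val l * 1 = _
  rw [mul_one]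
  show letterVal genList _ l = _
  simp [letterVal, h]

theorem ker_eq_bot_of_sq {E : Type u} [Group E] (σ : E →* G) (hσ : Cfsg.IsStemExtension σ)
    (h2' : ∀ k ∈ σ.ker, k * k = 1) : σ.ker = ⊥ := by
  have hσ' := hσ
  obtain ⟨hs, hc, -⟩ := hσ
  have h2 : ∀ k, σ k = 1 → k * k = 1 := fun k h => h2' k h
  obtain ⟨a, b, c, d, e, f, g, ⟨ha, hb, hc', hd, he, hf, hg⟩, hab, hbc, hcd, hde, hdf, hfg, hgd,
    efg, eabc, acd, hx⟩ := exists_good σ hs hc h2
  have haa := sq_a σ hs hc h2 ha
  have hbb := sq_b σ hs hc h2 hb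
  have hcc := sq_c σ hs hc h2 hc'
  have hdd := sq_d σ hs hc h2 hd
  have hee := sq_e σ hs hc h2 he
  have hff := sq_f σ hs hc h2 hf
  have hgg := sq_g σ hs hc h2 hg
  have cac := comm_ac σ hs hc h2 a c ha hc'
  have cad := comm_ad σ hs hc h2 a d ha hd
  have cae := comm_ae σ hs hc h2 a e ha he
  have caf := comm_af σ hs hc h2 a f ha hf
  have cag := comm_ag σ hs hc h2 a g ha hg
  have cbd := comm_bd σ hs hc h2 b d hb hd
  have cbe := comm_be σ hs hc h2 b e hb he
  have cbf := comm_bf σ hs hc h2 b f hb hf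
  have cbg := comm_bg σ hs hc h2 b g hb hg
  have cce := comm_ce σ hs hc h2 c e hc' he
  have ccf := comm_cf σ hs hc h2 c f hc' hf
  have ccg := comm_cg σ hs hc h2 c g hc' hg
  have cef := comm_ef σ hs hc h2 e f he hf
  have ceg := comm_eg σ hs hc h2 e g he hg
  let v : Cfsg.Spor.He.Gen → E := fun x => match x with
    | .a => a | .b => b | .c => c | .d => d | .e => e | .f => f | .g => g
  have two : ∀ {x y : E}, Commute x y → x * x = 1 → y * y = 1 → (x * y) ^ 2 = 1 := by
    intro x y h h1 h3
    rw [h.mul_pow, sq, sq, h1, h3, one_mul]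
  have two' : ∀ {x y : E}, Commute x y → x * x = 1 → y * y = 1 → (y * x) ^ 2 = 1 :=
    fun h h1 h3 => two h.symm h3 h1
  have swap : ∀ {x y : E} {m : ℕ}, (x * y) ^ m = 1 → (y * x) ^ m = 1 := by
    intro x y m h
    rw [show y * x = y * (x * y) * y⁻¹ by group, conj_pow, h, mul_one, mul_inv_cancel]
  have hrel : ∀ r ∈ coxRelators pres.edges ∪ {r | r ∈ pres.extra}, FreeGroup.lift v r = 1 := by
    rintro r (⟨x, -, y, -, rfl⟩ | hr)
    · rw [map_pow, map_mul, FreeGroup.lift_apply_of, FreeGroup.lift_apply_of]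
      cases x <;> cases y <;>
        simp [v, coxLabel, pres, Cfsg.Spor.He.edges, haa, hbb, hcc, hdd, hee, hff, hgg,
          hab, hbc, hcd, hde, hdf, hfg, hgd, swap hab, swap hbc, swap hcd, swap hde, swap hdf,
          swap hfg, swap hgd, two cac haa hcc, two cad haa hdd, two cae haa hee, two caf haa hff,
          two cag haa hgg, two cbd hbb hdd, two cbe hbb hee, two cbf hbb hff, two cbg hbb hgg,
          two cce hcc hee, two ccf hcc hff, two ccg hcc hgg, two cef hee hff, two ceg hee hgg,
          two' cac haa hcc, two' cad haa hdd, two' cae haa hee, two' caf haa hff,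
          two' cag haa hgg, two' cbd hbb hdd, two' cbe hbb hee, two' cbf hbb hff,
          two' cbg hbb hgg, two' cce hcc hee, two' ccf hcc hff, two' ccg hcc hgg,
          two' cef hee hff, two' ceg hee hgg]
    · change r ∈ Cfsg.Spor.He.extra at hr
      simp only [Cfsg.Spor.He.extra, List.mem_cons, List.not_mem_nil, or_false] at hr
      rcases hr with rfl | rfl | rfl | rfl
      · simp [v, ← efg]
      · simp [v, ← eabc]
      · simp [v, ← acd]
      · simpa [v] using hx
  let φ : G →* E := PresentedGroup.toGroup hrel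
  have hsec : σ.comp φ = MonoidHom.id G := by
    refine PresentedGroup.ext fun x => ?_
    rw [MonoidHom.comp_apply, PresentedGroup.toGroup.of, MonoidHom.id_apply]
    cases x
    exacts [ha.trans (V_single _ _ rfl), hb.trans (V_single _ _ rfl), hc'.trans (V_single _ _ rfl),
      hd.trans (V_single _ _ rfl), he.trans (V_single _ _ rfl), hf.trans (V_single _ _ rfl),
      hg.trans (V_single _ _ rfl)]
  exact ker_eq_bot_of_section σ hσ' φ fun x => DFunLike.congr_fun hsec x

theorem V_comm {U W : List ℕ} (h : sameAction (U ++ W) (W ++ U) = true) : Commute (V U) (V W) := by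
  show V U * V W = V W * V U
  rw [← V_append, ← V_append]; exact word_eq h

theorem V_conj_eq {U W : List ℕ} (n : ℕ) (hU : U.all (fun l => Nat.blt l 7) = true)
    (h : sameAction (U ++ W ++ U.reverse) (repWord W n) = true) :
    V U * V W * (V U)⁻¹ = V W ^ n := by
  rw [← V_reverse U hU, ← V_append, ← V_append, V_pow]; exact word_eq h

theorem V_pow_one {U : List ℕ} (n : ℕ) (h : sameAction (repWord U n) [] = true) : V U ^ n = 1 := by
  rw [V_pow]; exact word_eq (W := []) h

theorem V_ne_one {U : List ℕ} (h : diffAction U [] = true) : V U ≠ 1 := word_ne (W := []) h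

theorem V_commutator {U W : List ℕ} (hU : U.all (fun l => Nat.blt l 7) = true)
    (hW : W.all (fun l => Nat.blt l 7) = true) :
    ⁅V U, V W⁆ = V (U ++ W ++ U.reverse ++ W.reverse) := by
  rw [commutatorElement_def, ← V_reverse U hU, ← V_reverse W hW, ← V_append, ← V_append, ← V_append]

open Data in
theorem odd_primes {E : Type u} [Group E] (σ : E →* G) (hs : Function.Surjective σ)
    (hc : σ.ker ≤ Subgroup.center E) (ℓ : ℕ) (hℓ : ℓ.Prime) (h2 : ℓ ≠ 2) :
    ∃ S : Subgroup G, ¬ ℓ ∣ S.index ∧ σ.ker ⊓ ⁅S.comap σ, S.comap σ⁆ = ⊥ := by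
  haveI := He.finite
  have hcard : Nat.card G = 4030387200 := He.card_eq.1
  by_cases hd : ℓ ∣ 4030387200
  swap
  · exact ⟨⊥, by rw [Subgroup.index_bot, hcard]; exact hd,
      Cfsg.Agent.KnownSimple.inf_commutator_eq_bot_of_comm σ ⊥ fun x hx y hy =>
        Cfsg.Agent.KnownSimple.comm_of_cyclic σ hc ⊥ hs hx hy⟩
  have hℓ' : ℓ = 3 ∨ ℓ = 5 ∨ ℓ = 7 ∨ ℓ = 17 := by
    rw [show 4030387200 = 2 ^ 10 * 3 ^ 3 * 5 ^ 2 * 7 ^ 3 * 17 by norm_num] at hd
    have key : ∀ {q n : ℕ}, q.Prime → ℓ ∣ q ^ n → ℓ = q := fun hq h =>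
      (Nat.prime_dvd_prime_iff_eq hℓ hq).mp (hℓ.dvd_of_dvd_pow h)
    rcases hℓ.dvd_mul.mp hd with h | h
    · rcases hℓ.dvd_mul.mp h with h | h
      · rcases hℓ.dvd_mul.mp h with h | h
        · rcases hℓ.dvd_mul.mp h with h | h
          · exact absurd (key Nat.prime_two h) h2
          · exact Or.inl (key Nat.prime_three h)
        · exact Or.inr (Or.inl (key (by norm_num) h))
      · exact Or.inr (Or.inr (Or.inl (key (by norm_num) h)))
    · exact Or.inr (Or.inr (Or.inr ((Nat.prime_dvd_prime_iff_eq hℓ (by norm_num)).mp h)))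
  rcases hℓ' with rfl | rfl | rfl | rfl
  · exact criterion_extraspecial σ hs hc (a := 2) (b := 2) (by norm_num) (u := V u3) (v := V v3)
      (h := V h3) (V_pow_one 3 (by decide +kernel)) (V_pow_one 3 (by decide +kernel))
      (by rw [V_commutator rfl rfl]; exact V_ne_one (by decide +kernel))
      (by rw [V_commutator rfl rfl]; exact V_comm (by decide +kernel))
      (by rw [V_commutator rfl rfl]; exact V_comm (by decide +kernel))
      (V_conj_eq 2 rfl (by decide +kernel)) (V_conj_eq 2 rfl (by decide +kernel))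
      (by rw [V_commutator rfl rfl]; exact V_comm (by decide +kernel)) (by decide) (by decide)
      (by rw [hcard]; norm_num)
  · refine criterion_abelian σ hs hc (a := 2) (b := 2) (by norm_num) (u := V u5) (v := V v5)
      (h := V h5) (V_pow_one 5 (by decide +kernel)) (V_pow_one 5 (by decide +kernel))
      (V_ne_one (by decide +kernel)) (V_comm (by decide +kernel)) ?_
      (V_conj_eq 2 rfl (by decide +kernel)) (V_conj_eq 2 rfl (by decide +kernel)) (by decide)
      (by rw [hcard]; norm_num)
    intro i hi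
    rw [V_pow]
    interval_cases i <;> exact word_ne (by decide +kernel)
  · exact criterion_extraspecial σ hs hc (a := 2) (b := 4) (by norm_num) (u := V u7) (v := V v7)
      (h := V h7) (V_pow_one 7 (by decide +kernel)) (V_pow_one 7 (by decide +kernel))
      (by rw [V_commutator rfl rfl]; exact V_ne_one (by decide +kernel))
      (by rw [V_commutator rfl rfl]; exact V_comm (by decide +kernel))
      (by rw [V_commutator rfl rfl]; exact V_comm (by decide +kernel))
      (V_conj_eq 2 rfl (by decide +kernel)) (V_conj_eq 4 rfl (by decide +kernel))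
      (by rw [V_commutator rfl rfl]; exact V_comm (by decide +kernel)) (by decide) (by decide)
      (by rw [hcard]; norm_num)
  · haveI : Fact (Nat.Prime 17) := ⟨by norm_num⟩
    have ho : orderOf (V x17) = 17 :=
      orderOf_eq_prime (V_pow_one 17 (by decide +kernel)) (V_ne_one (by decide +kernel))
    refine ⟨Subgroup.zpowers (V x17), ?_,
      Cfsg.Agent.KnownSimple.inf_commutator_eq_bot_of_comm σ _ fun x hx y hy =>
        Cfsg.Agent.KnownSimple.comm_of_cyclic σ hc (Subgroup.zpowers (V x17)) hs hx hy⟩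
    have h := Subgroup.card_mul_index (Subgroup.zpowers (V x17))
    rw [Nat.card_zpowers, ho, hcard] at h
    intro hdvd
    omega

theorem multiplier : Cfsg.HasCyclicSchurMultiplier Cfsg.Spor.He 1 := by
  haveI : Finite Cfsg.Spor.He := He.finite
  refine Cfsg.Agent.Schur.hasCyclicSchurMultiplier_one_of_forall fun Γ _ _ σ hσ => ?_
  exact PresMult70.ker_eq_bot σ hσ (fun ℓ hℓ h2 => odd_primes σ hσ.1 hσ.2.1 ℓ hℓ h2)
    fun E _ _ τ hτ h => ker_eq_bot_of_sq τ hτ h

end Cfsg.Agent.HeMult70
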