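import Cfsg.Agent.SporB.He.Main
import Cfsg.Agent.HeMult70.Data

/-!
# Word identities in the Held group (helper70)
-/

set_option autoImplicit false
set_option maxRecDepth 100000

namespace Cfsg.Agent.HeMult70

open Cfsg.Agent.CosetEnum Cfsg.Agent.CosetEnum.He

/-- The presented group. -/
abbrev G : Type := Cfsg.Agent.CosetEnum.He.pres.Gp

/-- The image of a word. -/
abbrev V (W : List ℕ) : G := evalWord Cfsg.Agent.CosetEnum.He.pres.val W

/-- Both words act in the same way. -/
noncomputable def sameAction (U W : List ℕ) : Bool :=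
  U.all (fun l => Nat.blt l 7) && W.all (fun l => Nat.blt l 7) &&
    allRange (fun i => Nat.beq (Rep.tbl.run U i) (Rep.tbl.run W i)) 0 2058

theorem word_eq {U W : List ℕ} (h : sameAction U W = true) : V U = V W := by
  rw [sameAction, Bool.and_eq_true, Bool.and_eq_true, List.all_eq_true, List.all_eq_true] at h
  obtain ⟨⟨hU, hW⟩, hR⟩ := h
  have hU' : ∀ l ∈ U, l < Rep.tbl.nl := fun l hl => Nat.le_of_ble_eq_true (hU l hl)
  have hW' : ∀ l ∈ W, l < Rep.tbl.nl := fun l hl => Nat.le_of_ble_eq_true (hW l hl)
  apply card_eq.2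
  apply inv_injective
  refine Equiv.ext fun i => Fin.ext ?_
  rw [rep.hom_inv_apply nodup hU', rep.hom_inv_apply nodup hW']
  exact Nat.eq_of_beq_eq_true (allRange_spec hR i.val (Nat.zero_le _)
    (by simpa [Rep.tbl] using i.2))

theorem V_append (U W : List ℕ) : V (U ++ W) = V U * V W := evalWord_append _ _ _

theorem V_pow (U : List ℕ) (n : ℕ) : V U ^ n = V (repWord U n) := (evalWord_repWord _ _ _).symm

theorem V_nil : V [] = 1 := rfl

theorem V_reverse (U : List ℕ) (h : U.all (fun l => Nat.blt l 7) = true) :
    V U.reverse = (V U)⁻¹ := by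
  induction U with
  | nil => simp [V, evalWord]
  | cons l ls ih =>
    rw [List.all_cons, Bool.and_eq_true] at h
    have hl : l < pres.gens.length := Nat.le_of_ble_eq_true h.1
    have hsq : pres.val l * pres.val l = 1 := by
      rw [InvPres.val, letterVal_of_lt _ _ hl]; exact pres.sq_val _
    rw [List.reverse_cons, V_append, ih h.2]
    simp [V, evalWord, inv_eq_of_mul_eq_one_right hsq]

/-- Two words act differently. -/
noncomputable def diffAction (U W : List ℕ) : Bool :=
  U.all (fun l => Nat.blt l 7) && W.all (fun l => Nat.blt l 7) &&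
    !(allRange (fun i => Nat.beq (Rep.tbl.run U i) (Rep.tbl.run W i)) 0 2058)

theorem word_ne {U W : List ℕ} (h : diffAction U W = true) : V U ≠ V W := by
  intro e
  rw [diffAction, Bool.and_eq_true, Bool.and_eq_true, List.all_eq_true, List.all_eq_true] at h
  obtain ⟨⟨hU, hW⟩, hR⟩ := h
  rw [Bool.not_eq_true'] at hR
  have : allRange (fun i => Nat.beq (Rep.tbl.run U i) (Rep.tbl.run W i)) 0 2058 = true := by
    have hall : ∀ i, i < 2058 → Nat.beq (Rep.tbl.run U i) (Rep.tbl.run W i) = true := by
      intro i hi
      have hi' : i < Rep.tbl.n := by simpa [Rep.tbl] using hi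
      have h1 := rep.hom_inv_apply nodup (W := U)
        (fun l hl => Nat.le_of_ble_eq_true (hU l hl)) ⟨i, hi'⟩
      have h2 := rep.hom_inv_apply nodup (W := W)
        (fun l hl => Nat.le_of_ble_eq_true (hW l hl)) ⟨i, hi'⟩
      have h3 : Rep.tbl.run U i = Rep.tbl.run W i := by
        rw [← h1, ← h2]
        show (((rep.hom nodup (V U))⁻¹ ⟨i, hi'⟩ : Fin Rep.tbl.n) : ℕ) = _
        rw [e]
      rw [h3]
      exact Nat.beq_refl _
    have aux : ∀ (c a : ℕ), (∀ i, a ≤ i → i < a + c →
        Nat.beq (Rep.tbl.run U i) (Rep.tbl.run W i) = true) →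
        allRange (fun i => Nat.beq (Rep.tbl.run U i) (Rep.tbl.run W i)) a c = true := by
      intro c
      induction c with
      | zero => intro a _; rfl
      | succ c ih =>
        intro a ha
        show Bool.rec (motive := fun _ => Bool) false
          (allRange (fun i => Nat.beq (Rep.tbl.run U i) (Rep.tbl.run W i)) (a + 1) c)
          (Nat.beq (Rep.tbl.run U a) (Rep.tbl.run W a)) = true
        rw [ha a le_rfl (by omega)]
        exact ih (a + 1) fun i h1 h2 => ha i (by omega) (by omega)
    exact aux 2058 0 fun i _ hi => hall i (by omega)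
  rw [hR] at this
  exact Bool.false_ne_true this

end Cfsg.Agent.HeMult70
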